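import Groth.Agent.Fano.K778.TauZero

/-!
# Quintics on the tangent developable of the twisted cubic lie on no cubic surface

`caseI`: there is no `K496.QuintDat.Dat` whose Gauss map is the twisted cubic.
-/

set_option autoImplicit false

namespace K778.CaseI

open MvPolynomial K713.BinFactor K496.BinAlg K496.QuintDat K778.TauZero

variable {k : Type*} [Field k]

theorem X_ne_zero (i : Fin 2) : (X i : MvPolynomial (Fin 2) k) ≠ 0 := MvPolynomial.X_ne_zero i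

theorem X0_eq : (X 0 : MvPolynomial (Fin 2) k) = lin ![0, 1] := by simp [lin]

theorem isRelPrime_X : IsRelPrime (X 0 : MvPolynomial (Fin 2) k) (X 1) := by
  have hp : Prime (X 0 : MvPolynomial (Fin 2) k) := by
    rw [X0_eq]
    exact prime_lin (fun h => one_ne_zero (congrFun h 1))
  refine hp.irreducible.isRelPrime_iff_not_dvd.2 ?_
  rintro ⟨q, hq⟩
  have h := congrArg (eval ![0, 1]) hq
  simp at h

theorem isRelPrime_of_noZero [IsAlgClosed k] {A B : MvPolynomial (Fin 2) k} {m : ℕ} (hA : A.IsHomogeneous m)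
    (hA0 : A ≠ 0) (h : ∀ P : Fin 2 → k, P ≠ 0 → eval P A = 0 → eval P B = 0 → False) : IsRelPrime A B := by
  intro d hdA hdB
  obtain ⟨A', rfl⟩ := hdA
  obtain ⟨B', rfl⟩ := hdB
  obtain ⟨a, b, -, ha, -⟩ := K713.HomFactor.exists_isHomogeneous hA hA0
  rcases a with _ | a
  · exact K713.Binary.isUnit_of_isHomogeneous_zero ha (left_ne_zero_of_mul hA0)
  · obtain ⟨P, hP, hPd⟩ := exists_zero ha
    exact (h P hP (by rw [map_mul, hPd, zero_mul]) (by rw [map_mul, hPd, zero_mul])).elim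

/-- Steps (1), (2): the parametrization. -/
theorem exists_AB [CharZero k] {c0 c1 c2 c3 : MvPolynomial (Fin 2) k}
    (e1 : 3 * X 0 ^ 2 * c0 + 2 * X 0 * X 1 * c1 + X 1 ^ 2 * c2 = 0)
    (e2 : X 0 ^ 2 * c1 + 2 * X 0 * X 1 * c2 + 3 * X 1 ^ 2 * c3 = 0) :
    ∃ A B : MvPolynomial (Fin 2) k, c0 = X 1 ^ 2 * A ∧ c1 = X 1 ^ 2 * B - 2 * X 0 * X 1 * A ∧
      c2 = X 0 ^ 2 * A - 2 * X 0 * X 1 * B ∧ c3 = X 0 ^ 2 * B := by
  have x0 : (X 0 : MvPolynomial (Fin 2) k) ≠ 0 := X_ne_zero 0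
  have x1 : (X 1 : MvPolynomial (Fin 2) k) ≠ 0 := X_ne_zero 1
  have i3 : (C (3⁻¹ : k) * 3 : MvPolynomial (Fin 2) k) = 1 := by
    have : (3 : MvPolynomial (Fin 2) k) = C (3 : k) := (map_ofNat C 3).symm
    rw [this, ← map_mul, inv_mul_cancel₀ (by norm_num), map_one]
  have r01 := isRelPrime_X (k := k)
  obtain ⟨a', ha'⟩ : X 1 ∣ 3 * c0 := (r01.symm.pow_right (n := 2)).dvd_of_dvd_mul_left
    ⟨-(2 * X 0 * c1 + X 1 * c2), by linear_combination e1⟩
  obtain ⟨a, ha⟩ : ∃ a, c0 = X 1 * a := ⟨C (3⁻¹ : k) * a', by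
    linear_combination C (3⁻¹ : k) * ha' - c0 * i3⟩
  subst ha
  have f1 : 3 * X 0 ^ 2 * a + 2 * X 0 * c1 + X 1 * c2 = 0 := mul_left_cancel₀ x1 (by linear_combination e1)
  obtain ⟨e, rfl⟩ : X 0 ∣ c2 := r01.dvd_of_dvd_mul_left ⟨-(3 * X 0 * a + 2 * c1), by linear_combination f1⟩
  have f2 : 3 * X 0 * a + 2 * c1 + X 1 * e = 0 := mul_left_cancel₀ x0 (by linear_combination f1)
  obtain ⟨b', hb'⟩ : X 0 ^ 2 ∣ 3 * c3 := (IsRelPrime.pow_left (m := 2) (r01.pow_right (n := 2))).dvd_of_dvd_mul_left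
    ⟨-(c1 + 2 * X 1 * e), by linear_combination e2⟩
  obtain ⟨B, hB⟩ : ∃ B, c3 = X 0 ^ 2 * B := ⟨C (3⁻¹ : k) * b', by
    linear_combination C (3⁻¹ : k) * hb' - c3 * i3⟩
  subst hB
  have f3 : c1 + 2 * X 1 * e + 3 * X 1 ^ 2 * B = 0 :=
    mul_left_cancel₀ (pow_ne_zero 2 x0) (by linear_combination e2)
  have f4 : X 0 * a = X 1 * (e + 2 * X 1 * B) := by
    linear_combination C (3⁻¹ : k) * (f2 - 2 * f3) - (X 0 * a - X 1 * e - 2 * X 1 ^ 2 * B) * i3
  obtain ⟨A, rfl⟩ : X 1 ∣ a := r01.symm.dvd_of_dvd_mul_left ⟨_, f4⟩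
  have f5 : X 0 * A = e + 2 * X 1 * B := mul_left_cancel₀ x1 (by linear_combination f4)
  refine ⟨A, B, by ring, ?_, ?_, rfl⟩
  · linear_combination f3 + 2 * X 1 * f5
  · linear_combination -X 0 * f5

/-- The values of a symmetric trilinear form on the span of two vectors. -/
theorem expand {n : ℕ} {τ : Fin n → Fin n → Fin n → k} (h₁ : ∀ a b d, τ a b d = τ b a d)
    (h₂ : ∀ a b d, τ a b d = τ a d b) (x y : Fin n → MvPolynomial (Fin 2) k) (p q r w : MvPolynomial (Fin 2) k) :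
    tri τ (p • x + q • y) (p • x + q • y) (r • x + w • y) =
      r * (p ^ 2 * tri τ x x x + 2 * p * q * tri τ x x y + q ^ 2 * tri τ x y y) +
      w * (p ^ 2 * tri τ x x y + 2 * p * q * tri τ x y y + q ^ 2 * tri τ y y y) := by
  have a1 : tri τ x y x = tri τ x x y := tri_swap₂ x y x h₂
  have a2 : tri τ y x x = tri τ x x y := (tri_swap₁ y x x h₁).trans a1
  have a3 : tri τ y x y = tri τ x y y := tri_swap₁ y x y h₁
  have a4 : tri τ y y x = tri τ x y y := (tri_swap₂ y y x h₂).trans a3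
  simp only [tri_add₁, tri_add₂, tri_add₃, tri_smul₁, tri_smul₂, tri_smul₃, a1, a2, a3, a4]
  ring

/-- Step (3). -/
theorem exists_kappa [CharZero k] {A B t0 t1 t2 t3 : MvPolynomial (Fin 2) k} (hA : A.IsHomogeneous 3)
    (hB : B.IsHomogeneous 3) (hA0 : A ≠ 0) (hB0 : B ≠ 0) (hAB : IsRelPrime A B) (h0 : t0.IsHomogeneous 6)
    (h3 : t3.IsHomogeneous 6) (g1 : A ^ 2 * t0 + 2 * A * B * t1 + B ^ 2 * t2 = 0)
    (g2 : A ^ 2 * t1 + 2 * A * B * t2 + B ^ 2 * t3 = 0) :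
    ∃ κ0 κ1 : k, t0 = C κ0 * B ^ 2 ∧ 3 * t1 = C κ1 * B ^ 2 - 2 * C κ0 * A * B ∧
      3 * t2 = C κ0 * A ^ 2 - 2 * C κ1 * A * B ∧ t3 = C κ1 * A ^ 2 := by
  obtain ⟨q0, rfl⟩ : B ∣ t0 := (hAB.symm.pow_right (n := 2)).dvd_of_dvd_mul_left
    ⟨-(2 * A * t1 + B * t2), by linear_combination g1⟩
  have k1 : A ^ 2 * q0 + 2 * A * t1 + B * t2 = 0 := mul_left_cancel₀ hB0 (by linear_combination g1)
  obtain ⟨q2, rfl⟩ : A ∣ t2 := hAB.dvd_of_dvd_mul_left ⟨-(A * q0 + 2 * t1), by linear_combination k1⟩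
  have k2 : A * q0 + 2 * t1 + B * q2 = 0 := mul_left_cancel₀ hA0 (by linear_combination k1)
  obtain ⟨q3, rfl⟩ : A ∣ t3 := (hAB.pow_right (n := 2)).dvd_of_dvd_mul_left
    ⟨-(A * t1 + 2 * A * B * q2), by linear_combination g2⟩
  have k3 : A * t1 + 2 * A * B * q2 + B ^ 2 * q3 = 0 := mul_left_cancel₀ hA0 (by linear_combination g2)
  obtain ⟨z1, rfl⟩ : A ∣ q3 := (hAB.pow_right (n := 2)).dvd_of_dvd_mul_left
    ⟨-(t1 + 2 * B * q2), by linear_combination k3⟩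
  have k4 : t1 + 2 * B * q2 + B ^ 2 * z1 = 0 := mul_left_cancel₀ hA0 (by linear_combination k3)
  obtain ⟨z0, rfl⟩ : B ∣ q0 := hAB.symm.dvd_of_dvd_mul_left
    ⟨3 * q2 + 2 * B * z1, by linear_combination k2 - 2 * k4⟩
  have k5 : A * z0 = 3 * q2 + 2 * B * z1 := mul_left_cancel₀ hB0 (by linear_combination k2 - 2 * k4)
  have hz0 : z0.IsHomogeneous 0 := hom_of_mul' (a := 6) (n := 6) (by simpa using hB.pow 2) (pow_ne_zero 2 hB0)
    (by rw [show B ^ 2 * z0 = B * (B * z0) by ring]; exact h0) rfl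
  have hz1 : z1.IsHomogeneous 0 := hom_of_mul' (a := 6) (n := 6) (by simpa using hA.pow 2) (pow_ne_zero 2 hA0)
    (by rw [show A ^ 2 * z1 = A * (A * z1) by ring]; exact h3) rfl
  obtain ⟨κ0, rfl⟩ := eq_C_of_isHomogeneous_zero hz0
  obtain ⟨κ1, rfl⟩ := eq_C_of_isHomogeneous_zero hz1
  exact ⟨κ0, κ1, by ring, by linear_combination 3 * k4 + 2 * B * k5, by linear_combination -A * k5, by ring⟩

theorem isHomogeneous_K1 (a : Fin 4) : (K1 (k := k) a).IsHomogeneous 2 := by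
  have h0 := (isHomogeneous_X k (0 : Fin 2))
  have h1 := (isHomogeneous_X k (1 : Fin 2))
  have h2 : (-2 * X 0 * X 1 : MvPolynomial (Fin 2) k).IsHomogeneous 2 := by
    have h := ((isHomogeneous_C (Fin 2) (-2 : k)).mul h0).mul h1
    have e : (-2 : MvPolynomial (Fin 2) k) = C (-2 : k) := by rw [map_neg, map_ofNat]
    rw [e]
    exact h
  fin_cases a
  · simpa [K1] using h1.pow 2
  · simpa [K1] using h2
  · simpa [K1] using h0.pow 2
  · exact isHomogeneous_zero _ _ _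

theorem isHomogeneous_K2 (a : Fin 4) : (K2 (k := k) a).IsHomogeneous 2 := by
  have h0 := (isHomogeneous_X k (0 : Fin 2))
  have h1 := (isHomogeneous_X k (1 : Fin 2))
  have h2 : (-2 * X 0 * X 1 : MvPolynomial (Fin 2) k).IsHomogeneous 2 := by
    have h := ((isHomogeneous_C (Fin 2) (-2 : k)).mul h0).mul h1
    have e : (-2 : MvPolynomial (Fin 2) k) = C (-2 : k) := by rw [map_neg, map_ofNat]
    rw [e]
    exact h
  fin_cases a
  · exact isHomogeneous_zero _ _ _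
  · simpa [K2] using h1.pow 2
  · simpa [K2] using h2
  · simpa [K2] using h0.pow 2

theorem pderiv_two (i : Fin 2) : pderiv i (2 : MvPolynomial (Fin 2) k) = 0 := by
  rw [← map_ofNat C 2]
  exact pderiv_C

/-- `∂_t (t K1 - s K2) = 3 K1`. -/
theorem dd_one : dd 1 ((X 1 : MvPolynomial (Fin 2) k) • K1 (k := k) + (-X 0 : MvPolynomial (Fin 2) k) • K2 (k := k)) =
    (3 : MvPolynomial (Fin 2) k) • K1 (k := k) + (0 : MvPolynomial (Fin 2) k) • K2 (k := k) := by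
  ext1 a
  fin_cases a <;> simp [dd, K1, K2, pderiv_X, pderiv_two] <;> ring

/-- `∂_s (t K1 - s K2) = - 3 K2`. -/
theorem dd_zero : dd 0 ((X 1 : MvPolynomial (Fin 2) k) • K1 (k := k) + (-X 0 : MvPolynomial (Fin 2) k) • K2 (k := k)) =
    (0 : MvPolynomial (Fin 2) k) • K1 (k := k) + (-3 : MvPolynomial (Fin 2) k) • K2 (k := k) := by
  ext1 a
  fin_cases a <;> simp [dd, K1, K2, pderiv_X, pderiv_two] <;> ring

/-- Step (4): the descent. -/
theorem kappa_zero [CharZero k] {τ : Fin 4 → Fin 4 → Fin 4 → k} (h₁ : ∀ a b d, τ a b d = τ b a d)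
    (h₂ : ∀ a b d, τ a b d = τ a d b) {A B : MvPolynomial (Fin 2) k}
    (hh : X 0 * A + X 1 * B ≠ 0) {κ0 κ1 : k} (e0 : tri τ K1 K1 K1 = C κ0 * B ^ 2)
    (e1 : 3 * tri τ K1 K1 K2 = C κ1 * B ^ 2 - 2 * C κ0 * A * B)
    (e2 : 3 * tri τ K1 K2 K2 = C κ0 * A ^ 2 - 2 * C κ1 * A * B) (e3 : tri τ K2 K2 K2 = C κ1 * A ^ 2)
    (hz : ∀ P : Fin 2 → k, P ≠ 0 → eval P A = 0 → eval P B = 0 → False) : κ0 = 0 ∧ κ1 = 0 := by
  by_contra hκ
  let L : Fin 4 → MvPolynomial (Fin 2) k := (X 1 : MvPolynomial (Fin 2) k) • K1 (k := k) +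
    (-X 0 : MvPolynomial (Fin 2) k) • K2 (k := k)
  let h : MvPolynomial (Fin 2) k := X 0 * A + X 1 * B
  let l : MvPolynomial (Fin 2) k := C κ0 * X 1 - C κ1 * X 0
  have hh' : h ≠ 0 := hh
  have c3 : (3 : MvPolynomial (Fin 2) k) ≠ 0 := by
    rw [← map_ofNat C 3]
    exact fun h => three_ne_zero ((map_eq_zero_iff _ (C_injective _ _)).1 h)
  have c2 : (2 : MvPolynomial (Fin 2) k) ≠ 0 := by
    rw [← map_ofNat C 2]
    exact fun h => two_ne_zero ((map_eq_zero_iff _ (C_injective _ _)).1 h)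
  -- the value at `L`
  have v : tri τ L L L = l * h ^ 2 := by
    have h3 := expand h₁ h₂ (K1 (k := k)) (K2 (k := k)) (X 1) (-X 0) (X 1) (-X 0)
    simp only [L, h, l]
    rw [h3, e0, e3]
    linear_combination (-X 0 * X 1 ^ 2) * e1 + X 0 ^ 2 * X 1 * e2
  -- derivatives
  have dsym : ∀ i, pderiv i (tri τ L L L) = 3 * tri τ L L (dd i L) := by
    intro i
    rw [pderiv_tri, tri_swap₁ (dd i L) L L h₁, tri_swap₂ L (dd i L) L h₂]
    ring
  have d1 := dsym 1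
  have d0 := dsym 0
  rw [v] at d0 d1
  have w1 : tri τ L L (dd 1 L) = 3 * (X 1 ^ 2 * tri τ K1 K1 K1 + 2 * X 1 * (-X 0) * tri τ K1 K1 K2 +
      (-X 0) ^ 2 * tri τ K1 K2 K2) := by
    have h3 := expand h₁ h₂ (K1 (k := k)) (K2 (k := k)) (X 1) (-X 0) 3 0
    simp only [L]
    rw [dd_one, h3]
    ring
  have w0 : tri τ L L (dd 0 L) = -3 * (X 1 ^ 2 * tri τ K1 K1 K2 + 2 * X 1 * (-X 0) * tri τ K1 K2 K2 +
      (-X 0) ^ 2 * tri τ K2 K2 K2) := by
    have h3 := expand h₁ h₂ (K1 (k := k)) (K2 (k := k)) (X 1) (-X 0) 0 (-3)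
    simp only [L]
    rw [dd_zero, h3]
    ring
  have l1 : pderiv 1 l = C κ0 := by simp [l, pderiv_X]
  have l0 : pderiv 0 l = -C κ1 := by simp [l, pderiv_X]
  have m1 : l * pderiv 1 h = C κ0 * h + 3 * l * B := by
    apply mul_left_cancel₀ (mul_ne_zero c2 hh')
    have h4 : pderiv 1 (l * h ^ 2) = C κ0 * h ^ 2 + l * (2 * h * pderiv 1 h) := by
      rw [pderiv_mul, pderiv_pow, l1]
      simp
    rw [h4, w1, e0] at d1
    simp only [h, l] at d1 ⊢
    linear_combination d1 - 6 * X 0 * X 1 * e1 + 3 * X 0 ^ 2 * e2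
  have m0 : l * pderiv 0 h = -C κ1 * h + 3 * l * A := by
    apply mul_left_cancel₀ (mul_ne_zero c2 hh')
    have h4 : pderiv 0 (l * h ^ 2) = -C κ1 * h ^ 2 + l * (2 * h * pderiv 0 h) := by
      rw [pderiv_mul, pderiv_pow, l0]
      simp
    rw [h4, w0, e3] at d0
    simp only [h, l] at d0 ⊢
    linear_combination d0 - 3 * X 1 ^ 2 * e1 + 6 * X 0 * X 1 * e2
  -- `l` divides `h`
  have hlin : l = lin ![-κ0, -κ1] := by simp [l, lin]; ring
  have hP : (![-κ0, -κ1] : Fin 2 → k) ≠ 0 := by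
    intro h5
    exact hκ ⟨neg_eq_zero.1 (congrFun h5 0), neg_eq_zero.1 (congrFun h5 1)⟩
  have hl : Prime l := hlin ▸ prime_lin hP
  have hdvd : l ∣ h := by
    have hC : ∀ z : k, z ≠ 0 → ∀ g : MvPolynomial (Fin 2) k, l ∣ C z * g → l ∣ g := by
      intro z hz g hg
      exact (((isUnit_iff_ne_zero.2 hz).map (C (σ := Fin 2))).dvd_mul_left).1 hg
    by_cases h6 : κ0 = 0
    · have h7 : κ1 ≠ 0 := fun h7 => hκ ⟨h6, h7⟩
      exact hC κ1 h7 h ⟨3 * A - pderiv 0 h, by linear_combination m0⟩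
    · exact hC κ0 h6 h ⟨pderiv 1 h - 3 * B, by linear_combination -m1⟩
  obtain ⟨g, hg⟩ := hdvd
  have n1 : 3 * B = l * pderiv 1 g := by
    apply mul_left_cancel₀ hl.ne_zero
    have h8 : pderiv 1 h = C κ0 * g + l * pderiv 1 g := by rw [hg, pderiv_mul, l1]
    rw [h8] at m1
    linear_combination -m1 - C κ0 * hg
  have n0 : 3 * A = l * pderiv 0 g := by
    apply mul_left_cancel₀ hl.ne_zero
    have h8 : pderiv 0 h = -C κ1 * g + l * pderiv 0 g := by rw [hg, pderiv_mul, l0]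
    rw [h8] at m0
    linear_combination -m0 + C κ1 * hg
  have hev : eval ![-κ0, -κ1] l = 0 := by rw [hlin, eval_lin_self]
  refine hz _ hP ?_ ?_
  · have h9 := congrArg (eval ![-κ0, -κ1]) n0
    rw [map_mul, map_mul, hev, zero_mul, map_ofNat] at h9
    exact (mul_eq_zero.1 h9).resolve_left (by norm_num)
  · have h9 := congrArg (eval ![-κ0, -κ1]) n1
    rw [map_mul, map_mul, hev, zero_mul, map_ofNat] at h9
    exact (mul_eq_zero.1 h9).resolve_left (by norm_num)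

theorem caseI [IsAlgClosed k] [CharZero k] {τ : Fin 4 → Fin 4 → Fin 4 → k} {c : Fin 4 → MvPolynomial (Fin 2) k}
    {u : MvPolynomial (Fin 2) k} (D : Dat τ c ![X 0 ^ 3, X 0 ^ 2 * X 1, X 0 * X 1 ^ 2, X 1 ^ 3] u 3) : False := by
  have x0 : (X 0 : MvPolynomial (Fin 2) k) ≠ 0 := X_ne_zero 0
  have x1 : (X 1 : MvPolynomial (Fin 2) k) ≠ 0 := X_ne_zero 1
  have c3 : (3 : MvPolynomial (Fin 2) k) ≠ 0 := by
    rw [← map_ofNat C 3]
    exact fun h => three_ne_zero ((map_eq_zero_iff _ (C_injective _ _)).1 h)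
  -- the gradient
  have hS : ∀ x : Fin 4 → MvPolynomial (Fin 2) k, tri τ c c x =
      u * (X 0 ^ 3 * x 0 + X 0 ^ 2 * X 1 * x 1 + X 0 * X 1 ^ 2 * x 2 + X 1 ^ 3 * x 3) := by
    intro x
    rw [tri_eq_sum₃]
    simp only [Fin.sum_univ_four, D.eqn]
    simp
    ring
  have s0 : X 0 ^ 3 * c 0 + X 0 ^ 2 * X 1 * c 1 + X 0 * X 1 ^ 2 * c 2 + X 1 ^ 3 * c 3 = 0 := by
    have h := D.van
    rw [hS] at h
    exact (mul_eq_zero.1 h).resolve_left D.u0
  have s1 : ∀ i, X 0 ^ 3 * pderiv i (c 0) + X 0 ^ 2 * X 1 * pderiv i (c 1) + X 0 * X 1 ^ 2 * pderiv i (c 2) +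
      X 1 ^ 3 * pderiv i (c 3) = 0 := by
    intro i
    have h := congrArg (pderiv i) D.van
    rw [pderiv_tri, map_zero, tri_swap₁ (dd i c) c c D.symm₁, tri_swap₂ c (dd i c) c D.symm₂] at h
    have h2 : 3 * tri τ c c (dd i c) = 0 := by linear_combination h
    have h3 := (mul_eq_zero.1 h2).resolve_left c3
    rw [hS] at h3
    exact (mul_eq_zero.1 h3).resolve_left D.u0
  have e1 : 3 * X 0 ^ 2 * c 0 + 2 * X 0 * X 1 * c 1 + X 1 ^ 2 * c 2 = 0 := by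
    have h := congrArg (pderiv 0) s0
    simp [pderiv_X] at h
    linear_combination h - s1 0
  have e2 : X 0 ^ 2 * c 1 + 2 * X 0 * X 1 * c 2 + 3 * X 1 ^ 2 * c 3 = 0 := by
    have h := congrArg (pderiv 1) s0
    simp [pderiv_X] at h
    linear_combination h - s1 1
  obtain ⟨A, B, hc0, hc1, hc2, hc3⟩ := exists_AB e1 e2
  have hA : A.IsHomogeneous 3 := hom_of_mul' (a := 2) (n := 5) ((isHomogeneous_X k (1 : Fin 2)).pow 2)
    (pow_ne_zero 2 x1) (hc0 ▸ D.hom 0) rfl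
  have hB : B.IsHomogeneous 3 := hom_of_mul' (a := 2) (n := 5) ((isHomogeneous_X k (0 : Fin 2)).pow 2)
    (pow_ne_zero 2 x0) (hc3 ▸ D.hom 3) rfl
  have hz : ∀ P : Fin 2 → k, P ≠ 0 → eval P A = 0 → eval P B = 0 → False := by
    intro P hP h1 h2
    obtain ⟨a, ha⟩ := D.emb.nz hP
    apply ha
    fin_cases a
    · simp [hc0, h1]
    · simp [hc1, h1, h2]
    · simp [hc2, h1, h2]
    · simp [hc3, h2]
  have hA0 : A ≠ 0 := by
    rintro rfl
    obtain ⟨P, hP, hPB⟩ := exists_zero hB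
    exact hz P hP (map_zero _) hPB
  have hB0 : B ≠ 0 := by
    rintro rfl
    obtain ⟨P, hP, hPA⟩ := exists_zero hA
    exact hz P hP hPA (map_zero _)
  have hAB := isRelPrime_of_noZero hA hA0 hz
  have hh : X 0 * A + X 1 * B ≠ 0 := by
    intro h
    obtain ⟨q, rfl⟩ : X 1 ∣ A := isRelPrime_X.symm.dvd_of_dvd_mul_left ⟨-B, by linear_combination h⟩
    have h2 : B = -(X 0 * q) := mul_left_cancel₀ x1 (by linear_combination h)
    have hq : q.IsHomogeneous 2 := hom_of_mul' (a := 1) (n := 3) (isHomogeneous_X k (1 : Fin 2)) x1 hA rfl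
    obtain ⟨P, hP, hPq⟩ := exists_zero hq
    exact hz P hP (by rw [map_mul, hPq, mul_zero]) (by rw [h2, map_neg, map_mul, hPq, mul_zero, neg_zero])
  have hc : c = A • K1 (k := k) + B • K2 (k := k) := by
    ext1 a
    fin_cases a
    · simp [K1, K2, hc0]; ring
    · simp [K1, K2, hc1]; ring
    · simp [K1, K2, hc2]; ring
    · simp [K1, K2, hc3]; ring
  have g1 : A ^ 2 * tri τ K1 K1 K1 + 2 * A * B * tri τ K1 K1 K2 + B ^ 2 * tri τ K1 K2 K2 = 0 := by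
    have h := expand D.symm₁ D.symm₂ (K1 (k := k)) (K2 (k := k)) A B 1 0
    rw [← hc, hS] at h
    have h2 : X 0 ^ 3 * ((1 : MvPolynomial (Fin 2) k) • K1 (k := k) + (0 : MvPolynomial (Fin 2) k) • K2 (k := k)) 0 +
        X 0 ^ 2 * X 1 * ((1 : MvPolynomial (Fin 2) k) • K1 (k := k) + (0 : MvPolynomial (Fin 2) k) • K2 (k := k)) 1 +
        X 0 * X 1 ^ 2 * ((1 : MvPolynomial (Fin 2) k) • K1 (k := k) + (0 : MvPolynomial (Fin 2) k) • K2 (k := k)) 2 +
        X 1 ^ 3 * ((1 : MvPolynomial (Fin 2) k) • K1 (k := k) + (0 : MvPolynomial (Fin 2) k) • K2 (k := k)) 3 = 0 := by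
      simp [K1, K2]
      ring
    rw [h2] at h
    linear_combination -h
  have g2 : A ^ 2 * tri τ K1 K1 K2 + 2 * A * B * tri τ K1 K2 K2 + B ^ 2 * tri τ K2 K2 K2 = 0 := by
    have h := expand D.symm₁ D.symm₂ (K1 (k := k)) (K2 (k := k)) A B 0 1
    rw [← hc, hS] at h
    have h2 : X 0 ^ 3 * ((0 : MvPolynomial (Fin 2) k) • K1 (k := k) + (1 : MvPolynomial (Fin 2) k) • K2 (k := k)) 0 +
        X 0 ^ 2 * X 1 * ((0 : MvPolynomial (Fin 2) k) • K1 (k := k) + (1 : MvPolynomial (Fin 2) k) • K2 (k := k)) 1 +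
        X 0 * X 1 ^ 2 * ((0 : MvPolynomial (Fin 2) k) • K1 (k := k) + (1 : MvPolynomial (Fin 2) k) • K2 (k := k)) 2 +
        X 1 ^ 3 * ((0 : MvPolynomial (Fin 2) k) • K1 (k := k) + (1 : MvPolynomial (Fin 2) k) • K2 (k := k)) 3 = 0 := by
      simp [K1, K2]
      ring
    rw [h2] at h
    linear_combination -h
  obtain ⟨κ0, κ1, f0, f1, f2, f3⟩ := exists_kappa hA hB hA0 hB0 hAB
    (isHomogeneous_tri τ isHomogeneous_K1 isHomogeneous_K1 isHomogeneous_K1)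
    (isHomogeneous_tri τ isHomogeneous_K2 isHomogeneous_K2 isHomogeneous_K2) g1 g2
  obtain ⟨rfl, rfl⟩ := kappa_zero D.symm₁ D.symm₂ hh f0 f1 f2 f3 hz
  rw [map_zero] at f0 f1 f2 f3
  have hτ := tau_zero D.symm₁ D.symm₂ (by rw [f0, zero_mul])
    ((mul_eq_zero.1 (show 3 * tri τ K1 K1 K2 = 0 by rw [f1]; ring)).resolve_left c3)
    ((mul_eq_zero.1 (show 3 * tri τ K1 K2 K2 = 0 by rw [f2]; ring)).resolve_left c3) (by rw [f3, zero_mul])
  have h := D.eqn 0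
  have h2 : tri τ c c (Pi.single 0 1) = 0 := by simp [tri, hτ]
  rw [h2] at h
  exact D.u0 ((mul_eq_zero.1 h.symm).resolve_right (pow_ne_zero 3 x0))

end K778.CaseI
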