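import Groth.Agent.Fano.K496.QuintDat

/-!
# Cubic forms vanishing to the second order along the tangent developable of the twisted cubic

The parametrization of the tangent developable is `A K1 + B K2`.
-/

set_option autoImplicit false
set_option linter.unusedSimpArgs false

namespace K778.TauZero

open MvPolynomial K713.BinFactor K496.BinAlg K496.QuintDat

variable {k : Type*} [Field k]

noncomputable def K1 : Fin 4 → MvPolynomial (Fin 2) k := ![X 1 ^ 2, -2 * X 0 * X 1, X 0 ^ 2, 0]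

noncomputable def K2 : Fin 4 → MvPolynomial (Fin 2) k := ![0, X 1 ^ 2, -2 * X 0 * X 1, X 0 ^ 2]

theorem ev {n : ℕ} (τ : Fin n → Fin n → Fin n → k) (x y z : Fin n → MvPolynomial (Fin 2) k) (Q : Fin 2 → k) :
    eval Q (tri τ x y z) = ∑ a, ∑ b, ∑ d, τ a b d * (eval Q (x a) * eval Q (y b) * eval Q (z d)) := by
  simp only [tri, map_sum, map_mul, eval_C]

/-- Step (5): a cubic form vanishing on the tangent developable (to the second order) is zero. -/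
theorem tau_zero [CharZero k] {τ : Fin 4 → Fin 4 → Fin 4 → k} (h₁ : ∀ a b d, τ a b d = τ b a d)
    (h₂ : ∀ a b d, τ a b d = τ a d b) (t0 : tri τ K1 K1 K1 = 0) (t1 : tri τ K1 K1 K2 = 0)
    (t2 : tri τ K1 K2 K2 = 0) (t3 : tri τ K2 K2 K2 = 0) (a b d : Fin 4) : τ a b d = 0 := by
  have e010 : τ 0 1 0 = τ 0 0 1 := (h₂ 0 1 0)
  have e020 : τ 0 2 0 = τ 0 0 2 := (h₂ 0 2 0)
  have e021 : τ 0 2 1 = τ 0 1 2 := (h₂ 0 2 1)
  have e030 : τ 0 3 0 = τ 0 0 3 := (h₂ 0 3 0)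
  have e031 : τ 0 3 1 = τ 0 1 3 := (h₂ 0 3 1)
  have e032 : τ 0 3 2 = τ 0 2 3 := (h₂ 0 3 2)
  have e100 : τ 1 0 0 = τ 0 0 1 := ((h₁ 1 0 0).trans (h₂ 0 1 0))
  have e101 : τ 1 0 1 = τ 0 1 1 := (h₁ 1 0 1)
  have e102 : τ 1 0 2 = τ 0 1 2 := (h₁ 1 0 2)
  have e103 : τ 1 0 3 = τ 0 1 3 := (h₁ 1 0 3)
  have e110 : τ 1 1 0 = τ 0 1 1 := ((h₂ 1 1 0).trans (h₁ 1 0 1))
  have e120 : τ 1 2 0 = τ 0 1 2 := ((h₂ 1 2 0).trans (h₁ 1 0 2))
  have e121 : τ 1 2 1 = τ 1 1 2 := (h₂ 1 2 1)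
  have e130 : τ 1 3 0 = τ 0 1 3 := ((h₂ 1 3 0).trans (h₁ 1 0 3))
  have e131 : τ 1 3 1 = τ 1 1 3 := (h₂ 1 3 1)
  have e132 : τ 1 3 2 = τ 1 2 3 := (h₂ 1 3 2)
  have e200 : τ 2 0 0 = τ 0 0 2 := ((h₁ 2 0 0).trans (h₂ 0 2 0))
  have e201 : τ 2 0 1 = τ 0 1 2 := ((h₁ 2 0 1).trans (h₂ 0 2 1))
  have e202 : τ 2 0 2 = τ 0 2 2 := (h₁ 2 0 2)
  have e203 : τ 2 0 3 = τ 0 2 3 := (h₁ 2 0 3)
  have e210 : τ 2 1 0 = τ 0 1 2 := (((h₁ 2 1 0).trans (h₂ 1 2 0)).trans (h₁ 1 0 2))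
  have e211 : τ 2 1 1 = τ 1 1 2 := ((h₁ 2 1 1).trans (h₂ 1 2 1))
  have e212 : τ 2 1 2 = τ 1 2 2 := (h₁ 2 1 2)
  have e213 : τ 2 1 3 = τ 1 2 3 := (h₁ 2 1 3)
  have e220 : τ 2 2 0 = τ 0 2 2 := ((h₂ 2 2 0).trans (h₁ 2 0 2))
  have e221 : τ 2 2 1 = τ 1 2 2 := ((h₂ 2 2 1).trans (h₁ 2 1 2))
  have e230 : τ 2 3 0 = τ 0 2 3 := ((h₂ 2 3 0).trans (h₁ 2 0 3))
  have e231 : τ 2 3 1 = τ 1 2 3 := ((h₂ 2 3 1).trans (h₁ 2 1 3))
  have e232 : τ 2 3 2 = τ 2 2 3 := (h₂ 2 3 2)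
  have e300 : τ 3 0 0 = τ 0 0 3 := ((h₁ 3 0 0).trans (h₂ 0 3 0))
  have e301 : τ 3 0 1 = τ 0 1 3 := ((h₁ 3 0 1).trans (h₂ 0 3 1))
  have e302 : τ 3 0 2 = τ 0 2 3 := ((h₁ 3 0 2).trans (h₂ 0 3 2))
  have e303 : τ 3 0 3 = τ 0 3 3 := (h₁ 3 0 3)
  have e310 : τ 3 1 0 = τ 0 1 3 := (((h₁ 3 1 0).trans (h₂ 1 3 0)).trans (h₁ 1 0 3))
  have e311 : τ 3 1 1 = τ 1 1 3 := ((h₁ 3 1 1).trans (h₂ 1 3 1))
  have e312 : τ 3 1 2 = τ 1 2 3 := ((h₁ 3 1 2).trans (h₂ 1 3 2))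
  have e313 : τ 3 1 3 = τ 1 3 3 := (h₁ 3 1 3)
  have e320 : τ 3 2 0 = τ 0 2 3 := (((h₁ 3 2 0).trans (h₂ 2 3 0)).trans (h₁ 2 0 3))
  have e321 : τ 3 2 1 = τ 1 2 3 := (((h₁ 3 2 1).trans (h₂ 2 3 1)).trans (h₁ 2 1 3))
  have e322 : τ 3 2 2 = τ 2 2 3 := ((h₁ 3 2 2).trans (h₂ 2 3 2))
  have e323 : τ 3 2 3 = τ 2 3 3 := (h₁ 3 2 3)
  have e330 : τ 3 3 0 = τ 0 3 3 := ((h₂ 3 3 0).trans (h₁ 3 0 3))
  have e331 : τ 3 3 1 = τ 1 3 3 := ((h₂ 3 3 1).trans (h₁ 3 1 3))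
  have e332 : τ 3 3 2 = τ 2 3 3 := ((h₂ 3 3 2).trans (h₁ 3 2 3))
  have v1 : ∀ s t : k, (fun a => eval ![s, t] (K1 (k := k) a)) = ![t ^ 2, -2 * s * t, s ^ 2, 0] := by
    intro s t
    ext a
    fin_cases a <;> simp [K1]
  have v2 : ∀ s t : k, (fun a => eval ![s, t] (K2 (k := k) a)) = ![0, t ^ 2, -2 * s * t, s ^ 2] := by
    intro s t
    ext a
    fin_cases a <;> simp [K2]
  have w10 : ∀ s t : k, eval ![s, t] (K1 (k := k) 0) = t ^ 2 := fun s t => congrFun (v1 s t) 0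
  have w11 : ∀ s t : k, eval ![s, t] (K1 (k := k) 1) = -2 * s * t := fun s t => congrFun (v1 s t) 1
  have w12 : ∀ s t : k, eval ![s, t] (K1 (k := k) 2) = s ^ 2 := fun s t => congrFun (v1 s t) 2
  have w13 : ∀ s t : k, eval ![s, t] (K1 (k := k) 3) = 0 := fun s t => congrFun (v1 s t) 3
  have w20 : ∀ s t : k, eval ![s, t] (K2 (k := k) 0) = 0 := fun s t => congrFun (v2 s t) 0
  have w21 : ∀ s t : k, eval ![s, t] (K2 (k := k) 1) = t ^ 2 := fun s t => congrFun (v2 s t) 1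
  have w22 : ∀ s t : k, eval ![s, t] (K2 (k := k) 2) = -2 * s * t := fun s t => congrFun (v2 s t) 2
  have w23 : ∀ s t : k, eval ![s, t] (K2 (k := k) 3) = s ^ 2 := fun s t => congrFun (v2 s t) 3
  have : Infinite k := Infinite.of_injective _ (Nat.cast_injective (R := k))
  have r0 : (![τ 2 2 2, -6 * τ 1 2 2, 3 * τ 0 2 2 + 12 * τ 1 1 2, -12 * τ 0 1 2 - 8 * τ 1 1 1,
      3 * τ 0 0 2 + 12 * τ 0 1 1, -6 * τ 0 0 1, τ 0 0 0] : Fin (6 + 1) → k) = 0 := by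
    refine K798.TwBin.eq_zero_of_bv fun s t => ?_
    have h := congrArg (eval ![s, t]) t0
    rw [ev, map_zero] at h
    simp only [Fin.sum_univ_four, w10, w11, w12, w13, w20, w21, w22, w23, e010, e020, e021, e030, e031, e032, e100, e101, e102, e103, e110, e120, e121, e130, e131, e132, e200, e201, e202, e203, e210, e211, e212, e213, e220, e221, e230, e231, e232, e300, e301, e302, e303, e310, e311, e312, e313, e320, e321, e322, e323, e330, e331, e332] at h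
    simp [K798.TwBin.bv, Fin.sum_univ_succ]
    linear_combination h
  have r1 : (![τ 2 2 3, -2 * τ 2 2 2 - 4 * τ 1 2 3, 9 * τ 1 2 2 + 2 * τ 0 2 3 + 4 * τ 1 1 3,
      -12 * τ 1 1 2 - 4 * τ 0 2 2 - 4 * τ 0 1 3, 10 * τ 0 1 2 + 4 * τ 1 1 1 + τ 0 0 3,
      -4 * τ 0 1 1 - 2 * τ 0 0 2, τ 0 0 1] : Fin (6 + 1) → k) = 0 := by
    refine K798.TwBin.eq_zero_of_bv fun s t => ?_
    have h := congrArg (eval ![s, t]) t1
    rw [ev, map_zero] at h
    simp only [Fin.sum_univ_four, w10, w11, w12, w13, w20, w21, w22, w23, e010, e020, e021, e030, e031, e032, e100, e101, e102, e103, e110, e120, e121, e130, e131, e132, e200, e201, e202, e203, e210, e211, e212, e213, e220, e221, e230, e231, e232, e300, e301, e302, e303, e310, e311, e312, e313, e320, e321, e322, e323, e330, e331, e332] at h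
    simp [K798.TwBin.bv, Fin.sum_univ_succ]
    linear_combination h
  have r2 : (![τ 2 3 3, -2 * τ 1 3 3 - 4 * τ 2 2 3, τ 0 3 3 + 10 * τ 1 2 3 + 4 * τ 2 2 2,
      -4 * τ 0 2 3 - 4 * τ 1 1 3 - 12 * τ 1 2 2, 2 * τ 0 1 3 + 4 * τ 0 2 2 + 9 * τ 1 1 2,
      -4 * τ 0 1 2 - 2 * τ 1 1 1, τ 0 1 1] : Fin (6 + 1) → k) = 0 := by
    refine K798.TwBin.eq_zero_of_bv fun s t => ?_
    have h := congrArg (eval ![s, t]) t2
    rw [ev, map_zero] at h
    simp only [Fin.sum_univ_four, w10, w11, w12, w13, w20, w21, w22, w23, e010, e020, e021, e030, e031, e032, e100, e101, e102, e103, e110, e120, e121, e130, e131, e132, e200, e201, e202, e203, e210, e211, e212, e213, e220, e221, e230, e231, e232, e300, e301, e302, e303, e310, e311, e312, e313, e320, e321, e322, e323, e330, e331, e332] at h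
    simp [K798.TwBin.bv, Fin.sum_univ_succ]
    linear_combination h
  have r3 : (![τ 3 3 3, -6 * τ 2 3 3, 3 * τ 1 3 3 + 12 * τ 2 2 3, -12 * τ 1 2 3 - 8 * τ 2 2 2,
      3 * τ 1 1 3 + 12 * τ 1 2 2, -6 * τ 1 1 2, τ 1 1 1] : Fin (6 + 1) → k) = 0 := by
    refine K798.TwBin.eq_zero_of_bv fun s t => ?_
    have h := congrArg (eval ![s, t]) t3
    rw [ev, map_zero] at h
    simp only [Fin.sum_univ_four, w10, w11, w12, w13, w20, w21, w22, w23, e010, e020, e021, e030, e031, e032, e100, e101, e102, e103, e110, e120, e121, e130, e131, e132, e200, e201, e202, e203, e210, e211, e212, e213, e220, e221, e230, e231, e232, e300, e301, e302, e303, e310, e311, e312, e313, e320, e321, e322, e323, e330, e331, e332] at h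
    simp [K798.TwBin.bv, Fin.sum_univ_succ]
    linear_combination h
  have p0 : τ 2 2 2 = 0 := congrFun r0 0
  have p1 : -6 * τ 1 2 2 = 0 := congrFun r0 1
  have p2 : 3 * τ 0 2 2 + 12 * τ 1 1 2 = 0 := congrFun r0 2
  have p3 : -12 * τ 0 1 2 - 8 * τ 1 1 1 = 0 := congrFun r0 3
  have p4 : 3 * τ 0 0 2 + 12 * τ 0 1 1 = 0 := congrFun r0 4
  have p5 : -6 * τ 0 0 1 = 0 := congrFun r0 5
  have p6 : τ 0 0 0 = 0 := congrFun r0 6
  have q0 : τ 2 2 3 = 0 := congrFun r1 0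
  have q1 : -2 * τ 2 2 2 - 4 * τ 1 2 3 = 0 := congrFun r1 1
  have q2 : 9 * τ 1 2 2 + 2 * τ 0 2 3 + 4 * τ 1 1 3 = 0 := congrFun r1 2
  have q3 : -12 * τ 1 1 2 - 4 * τ 0 2 2 - 4 * τ 0 1 3 = 0 := congrFun r1 3
  have q4 : 10 * τ 0 1 2 + 4 * τ 1 1 1 + τ 0 0 3 = 0 := congrFun r1 4
  have q5 : -4 * τ 0 1 1 - 2 * τ 0 0 2 = 0 := congrFun r1 5
  have s0 : τ 2 3 3 = 0 := congrFun r2 0
  have s1 : -2 * τ 1 3 3 - 4 * τ 2 2 3 = 0 := congrFun r2 1
  have s2 : τ 0 3 3 + 10 * τ 1 2 3 + 4 * τ 2 2 2 = 0 := congrFun r2 2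
  have s6 : τ 0 1 1 = 0 := congrFun r2 6
  have u0 : τ 3 3 3 = 0 := congrFun r3 0
  have u4 : 3 * τ 1 1 3 + 12 * τ 1 2 2 = 0 := congrFun r3 4
  have u5 : -6 * τ 1 1 2 = 0 := congrFun r3 5
  have u6 : τ 1 1 1 = 0 := congrFun r3 6
  have hc : ∀ {m : ℕ} {x : k}, ((m + 1 : ℕ) : k) * x = 0 → x = 0 := fun {m x} h =>
    (mul_eq_zero.1 h).resolve_left (Nat.cast_ne_zero.2 (Nat.succ_ne_zero m))
  have z001 : τ 0 0 1 = 0 := hc (m := 5) (by push_cast; linear_combination -p5)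
  have z122 : τ 1 2 2 = 0 := hc (m := 5) (by push_cast; linear_combination -p1)
  have z112 : τ 1 1 2 = 0 := hc (m := 5) (by push_cast; linear_combination -u5)
  have z012 : τ 0 1 2 = 0 := hc (m := 11) (by push_cast; linear_combination -p3 - 8 * u6)
  have z022 : τ 0 2 2 = 0 := hc (m := 2) (by push_cast; linear_combination p2 - 12 * z112)
  have z002 : τ 0 0 2 = 0 := hc (m := 2) (by push_cast; linear_combination p4 - 12 * s6)
  have z123 : τ 1 2 3 = 0 := hc (m := 3) (by push_cast; linear_combination -q1 - 2 * p0)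
  have z113 : τ 1 1 3 = 0 := hc (m := 2) (by push_cast; linear_combination u4 - 12 * z122)
  have z023 : τ 0 2 3 = 0 := hc (m := 1) (by push_cast; linear_combination q2 - 9 * z122 - 4 * z113)
  have z013 : τ 0 1 3 = 0 := hc (m := 3) (by push_cast; linear_combination -q3 - 12 * z112 - 4 * z022)
  have z003 : τ 0 0 3 = 0 := by linear_combination q4 - 10 * z012 - 4 * u6
  have z133 : τ 1 3 3 = 0 := hc (m := 1) (by push_cast; linear_combination -s1 - 4 * q0)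
  have z033 : τ 0 3 3 = 0 := by linear_combination s2 - 10 * z123 - 4 * p0
  have key : ∀ a b d, τ a b d = 0 := by
    intro a b d
    fin_cases a <;> fin_cases b <;> fin_cases d <;>
      simp [p6, z001, z002, z003, s6, z012, z013, z022, z023, z033, u6, z112, z113, z122, z123, z133, p0, q0, s0, u0,
        e010, e020, e021, e030, e031, e032, e100, e101, e102, e103, e110, e120, e121, e130, e131, e132, e200, e201, e202, e203, e210, e211, e212, e213, e220, e221, e230, e231, e232, e300, e301, e302, e303, e310, e311, e312, e313, e320, e321, e322, e323, e330, e331, e332]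
  exact key a b d

end K778.TauZero
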